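import Cfsg.Agent.Lib.Core.PSolvable
import Cfsg.Agent.Lib.Fusion.Abelian
import Cfsg.Agent.Lib.Block.PPart
import Mathlib.NumberTheory.Basic

/-!
# Cyclic Sylow subgroups: fixed points and pairs of elements of prime order

The normalizer of a cyclic Sylow subgroup acts without fixed points modulo the centralizer, and
two elements of order `p` generating a `p`-solvable subgroup have exactly one regular product
`x * y ^ k`, the other products having `p`-part of order `p`.
-/

set_option autoImplicit false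
set_option linter.unusedSectionVars false
set_option maxHeartbeats 400000

namespace Cfsg.Lib.Block.CyclicPairs

open Cfsg

universe u

variable {p : ℕ} [Fact p.Prime] {G : Type u} [Group G] [Finite G]

theorem regular_fixes (P : Sylow p G) (hc : IsCyclic (P : Subgroup G)) {n y : G}
    (hn : n ∈ Subgroup.normalizer ((P : Subgroup G) : Set G)) (hreg : ¬ p ∣ orderOf n)
    (hy : y ∈ (P : Subgroup G)) (hy1 : y ≠ 1) (hfix : n * y = y * n) :
    n ∈ Subgroup.centralizer ((P : Subgroup G) : Set G) := by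
  have hp := Fact.out (p := p.Prime)
  obtain ⟨u, hu⟩ := (Subgroup.isCyclic_iff_exists_zpowers_eq_top (P : Subgroup G)).1 hc
  have huP : u ∈ (P : Subgroup G) := hu ▸ Subgroup.mem_zpowers u
  obtain ⟨t, ht⟩ : ∃ t : ℤ, u ^ t = n * u * n⁻¹ :=
    Subgroup.mem_zpowers_iff.1 (hu.symm ▸ (Subgroup.mem_normalizer_iff.1 hn u).1 huP)
  obtain ⟨j, hj⟩ : ∃ j : ℤ, u ^ j = y := Subgroup.mem_zpowers_iff.1 (hu.symm ▸ hy)
  obtain ⟨a, ha⟩ := IsPGroup.iff_orderOf.1 P.2 ⟨u, huP⟩
  rw [Subgroup.orderOf_mk] at ha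
  -- `t` is congruent to one modulo `p`
  have hj' : (u ^ t) ^ j = u ^ j := by
    rw [ht, conj_zpow, hj, hfix, mul_inv_cancel_right]
  have hd : ((p ^ a : ℕ) : ℤ) ∣ (t - 1) * j := by
    rw [← ha]
    refine orderOf_dvd_iff_zpow_eq_one.2 ?_
    rw [sub_mul, one_mul, zpow_sub, zpow_mul, hj', mul_inv_cancel]
  have hpt : (p : ℤ) ∣ t - 1 := by
    by_contra hnd
    have hco : IsCoprime (((p : ℤ)) ^ a) (t - 1) :=
      ((Nat.prime_iff_prime_int.1 hp).coprime_iff_not_dvd.2 hnd).pow_left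
    push_cast at hd
    have hdj := hco.dvd_of_dvd_mul_left hd
    refine hy1 (hj ▸ orderOf_dvd_iff_zpow_eq_one.1 ?_)
    rw [ha]; exact_mod_cast hdj
  have hpow : ((p ^ a : ℕ) : ℤ) ∣ t ^ p ^ a - 1 := by
    have h := dvd_sub_pow_of_dvd_sub (R := ℤ) (p := p) (a := t) (b := 1) hpt a
    rw [one_pow] at h
    push_cast
    exact (pow_dvd_pow (p : ℤ) (Nat.le_succ a)).trans h
  have hiter : ∀ m : ℕ, n ^ m * u * (n ^ m)⁻¹ = u ^ (t ^ m : ℤ) := by
    intro m
    induction m with
    | zero => simp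
    | succ m ih =>
      calc n ^ (m + 1) * u * (n ^ (m + 1))⁻¹
          = n ^ m * (n * u * n⁻¹) * (n ^ m)⁻¹ := by rw [pow_succ]; group
        _ = (n ^ m * u * (n ^ m)⁻¹) ^ t := by rw [conj_zpow, ht]
        _ = u ^ (t ^ (m + 1) : ℤ) := by rw [ih, ← zpow_mul, pow_succ]
  have hcm : Commute (n ^ p ^ a) u := by
    have h1 : u ^ (t ^ p ^ a - 1 : ℤ) = 1 :=
      orderOf_dvd_iff_zpow_eq_one.1 (by rw [ha]; exact hpow)
    have h2 : u ^ (t ^ p ^ a : ℤ) = u := by
      rw [show (t ^ p ^ a : ℤ) = (t ^ p ^ a - 1) + 1 by ring, zpow_add, h1, one_mul, zpow_one]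
    exact mul_inv_eq_iff_eq_mul.1 ((hiter (p ^ a)).trans h2)
  have hcop : (orderOf n).Coprime (p ^ a) :=
    (hp.coprime_iff_not_dvd.2 hreg).symm.pow_right a
  obtain ⟨m, hm⟩ := exists_pow_eq_self_of_coprime hcop.symm
  have hnu : Commute n u := hm ▸ hcm.pow_left m
  refine Subgroup.mem_centralizer_iff.2 fun w hw => ?_
  obtain ⟨i, rfl⟩ := Subgroup.mem_zpowers_iff.1 (hu.symm ▸ hw : w ∈ Subgroup.zpowers u)
  exact (hnu.zpow_right i).eq.symm

/-- An element normalizing a cyclic Sylow subgroup and fixing a nontrivial element of it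
centralizes it. -/
theorem fixes (P : Sylow p G) (hc : IsCyclic (P : Subgroup G)) {n y : G}
    (hn : n ∈ Subgroup.normalizer ((P : Subgroup G) : Set G))
    (hy : y ∈ (P : Subgroup G)) (hy1 : y ≠ 1) (hfix : n * y = y * n) :
    n ∈ Subgroup.centralizer ((P : Subgroup G) : Set G) := by
  have hmem : ∀ g, g ∈ Subgroup.zpowers n → g ∈ Subgroup.normalizer ((P : Subgroup G) : Set G) :=
    fun g hg => (Subgroup.zpowers_le.2 hn) hg
  have hcom : ∀ g, g ∈ Subgroup.zpowers n → g * y = y * g := fun g hg => by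
    obtain ⟨i, rfl⟩ := Subgroup.mem_zpowers_iff.1 hg
    exact ((show Commute n y from hfix).zpow_left i).eq
  have hb : pReg p n ∈ Subgroup.centralizer ((P : Subgroup G) : Set G) :=
    regular_fixes P hc (hmem _ (pReg_mem_zpowers n)) (not_dvd_orderOf_pReg n) hy hy1
      (hcom _ (pReg_mem_zpowers n))
  obtain ⟨k, hk⟩ := exists_orderOf_pPt (p := p) n
  have hA : IsPGroup p (Subgroup.zpowers (pPt p n)) :=
    IsPGroup.of_card (n := k) (by rw [Nat.card_zpowers, hk])
  have haP : pPt p n ∈ (P : Subgroup G) := by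
    have hsup := hA.to_sup_of_normal_right' P.2
      (Subgroup.zpowers_le.2 (hmem _ (pPt_mem_zpowers n)))
    rw [← P.3 hsup le_sup_right]
    exact Subgroup.mem_sup_left (Subgroup.mem_zpowers _)
  haveI := hc
  have ha : pPt p n ∈ Subgroup.centralizer ((P : Subgroup G) : Set G) :=
    Subgroup.mem_centralizer_iff.2 fun w hw => by
      let _ : CommGroup (P : Subgroup G) := IsCyclic.commGroup
      exact congrArg Subtype.val (mul_comm (⟨w, hw⟩ : (P : Subgroup G)) ⟨_, haP⟩)
  rw [← pPt_mul_pReg (p := p) n]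
  exact mul_mem ha hb

/-- Products of two elements of order `p` in a `p`-solvable subgroup. -/
theorem pair_products (hcyc : ∀ S : Subgroup G, IsPGroup p S → IsCyclic S) {x y : G}
    (hx : orderOf x = p) (hy : orderOf y = p)
    (hs : IsPSolvable p (Subgroup.closure ({x, y} : Set G))) :
    ∃ k₀ < p, 0 < k₀ ∧ ∀ k < p, 0 < k →
      ((¬ p ∣ orderOf (x * y ^ k)) ↔ k = k₀) ∧
      (k ≠ k₀ → orderOf (pPt p (x * y ^ k)) = p) := by
  have hp := Fact.out (p := p.Prime)
  set H := Subgroup.closure ({x, y} : Set G) with hH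
  let X : H := ⟨x, Subgroup.subset_closure (by simp)⟩
  let Y : H := ⟨y, Subgroup.subset_closure (by simp)⟩
  set K := pPrimeCore p H
  have hKp : ¬ p ∣ Nat.card K := Core.pPrimeCore_not_dvd p H
  set Q := H ⧸ K
  obtain ⟨T⟩ := (inferInstance : Nonempty (Sylow p H))
  let T' : Sylow p Q := T.mapSurjective (QuotientGroup.mk'_surjective K)
  have hTc : IsCyclic (T : Subgroup H) := by
    have := hcyc _ (T.2.map H.subtype)
    exact isCyclic_of_injective
      ((Subgroup.equivMapOfInjective (T : Subgroup H) H.subtype H.subtype_injective).toMonoidHom)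
      (MulEquiv.injective _)
  have hT'c : IsCyclic (T' : Subgroup Q) := by
    haveI := hTc
    exact isCyclic_of_surjective ((QuotientGroup.mk' K).subgroupMap (T : Subgroup H))
      ((QuotientGroup.mk' K).subgroupMap_surjective (T : Subgroup H))
  set O := pCore p Q
  have hOT : O ≤ (T' : Subgroup Q) := Core.pCore_le_sylow T'
  have hC := Core.centralizer_pCore_le_of_isPSolvable (Core.isPSolvable_quotient hs K)
    Core.pPrimeCore_quotient_eq_bot
  have hTO : (T' : Subgroup Q) ≤ O := fun t ht =>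
    hC (Subgroup.mem_centralizer_iff.2 fun o ho => by
      haveI := hT'c
      let _ : CommGroup (T' : Subgroup Q) := IsCyclic.commGroup
      exact congrArg Subtype.val (mul_comm (⟨o, hOT ho⟩ : (T' : Subgroup Q)) ⟨t, ht⟩))
  have hTeq : (T' : Subgroup Q) = O := le_antisymm hTO hOT
  have hOc : IsCyclic O := hTeq ▸ hT'c
  have hmem : ∀ g : Q, g ^ p = 1 → g ∈ O := fun g hg => by
    have hA : IsPGroup p (Subgroup.zpowers g) := by
      obtain ⟨i, -, hi⟩ := (Nat.dvd_prime_pow hp (m := 1)).1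
        ((orderOf_dvd_of_pow_eq_one hg).trans (pow_one p).symm.dvd)
      exact IsPGroup.of_card (n := i) ((Nat.card_zpowers g).trans hi)
    obtain ⟨U, hU⟩ := hA.exists_le_sylow
    obtain ⟨c, hc⟩ := MulAction.exists_smul_eq Q T' U
    have : (U : Subgroup Q) = O := by
      rw [← hc, Sylow.coe_subgroup_smul, hTeq]
      exact Subgroup.Normal.conj_smul_eq_self c O
    exact this ▸ hU (Subgroup.mem_zpowers g)
  let f := QuotientGroup.mk' K
  have hXp : (f X) ^ p = 1 := by
    rw [← map_pow, show X ^ p = 1 from Subtype.ext (by simp [X, ← hx, pow_orderOf_eq_one]), map_one]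
  have hYp : (f Y) ^ p = 1 := by
    rw [← map_pow, show Y ^ p = 1 from Subtype.ext (by simp [Y, ← hy, pow_orderOf_eq_one]), map_one]
  have hnK : ∀ g : H, orderOf g = p → g ∉ K := fun g hg hK =>
    hKp (hg ▸ Subgroup.orderOf_dvd_natCard _ hK)
  have hY1 : f Y ≠ 1 := fun h => hnK Y (by rw [← Subgroup.orderOf_coe]; exact hy)
    ((QuotientGroup.eq_one_iff Y).1 h)
  have hX1 : f X ≠ 1 := fun h => hnK X (by rw [← Subgroup.orderOf_coe]; exact hx)
    ((QuotientGroup.eq_one_iff X).1 h)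
  have hXY : f X ∈ Subgroup.zpowers (f Y) := by
    haveI := hOc
    let a : O := ⟨f X, hmem _ hXp⟩
    let b : O := ⟨f Y, hmem _ hYp⟩
    have ha : a ^ p = 1 := Subtype.ext hXp
    have hb : orderOf b = p := orderOf_eq_prime (Subtype.ext hYp)
      fun h => hY1 (congrArg Subtype.val h)
    have hbp : b ^ p = 1 := Subtype.ext hYp
    obtain ⟨i, hi⟩ : ∃ i : ℕ, b ^ i = a := by
      classical
      haveI : Fintype O := Fintype.ofFinite O
      have hsub : (Finset.univ.filter fun c : O => c ^ p = 1).card ≤ p :=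
        IsCyclic.card_pow_eq_one_le hp.pos
      have himg : (Finset.range p).image (fun i : ℕ => b ^ i) =
          Finset.univ.filter fun c : O => c ^ p = 1 := by
        refine Finset.eq_of_subset_of_card_le ?_ ?_
        · intro c hc
          obtain ⟨i, -, rfl⟩ := Finset.mem_image.1 hc
          exact Finset.mem_filter.2 ⟨Finset.mem_univ _, by
            rw [← pow_mul, mul_comm, pow_mul, hbp, one_pow]⟩
        · rw [Finset.card_image_of_injOn (fun i hi j hj h => pow_injOn_Iio_orderOf (x := b)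
            (by rw [Set.mem_Iio, hb]; exact Finset.mem_range.1 hi)
            (by rw [Set.mem_Iio, hb]; exact Finset.mem_range.1 hj) h), Finset.card_range]
          exact hsub
      obtain ⟨i, -, hi⟩ := Finset.mem_image.1
        (himg.symm ▸ Finset.mem_filter.2 ⟨Finset.mem_univ a, ha⟩)
      exact ⟨i, hi⟩
    exact ⟨i, by simpa [a, b] using congrArg Subtype.val hi⟩
  obtain ⟨i, hi⟩ : ∃ i : ℕ, f Y ^ i = (f X)⁻¹ := by
    have := (Subgroup.zpowers (f Y)).inv_mem hXY
    rwa [← mem_powers_iff_mem_zpowers, Submonoid.mem_powers_iff] at this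
  have hoY : orderOf (f Y) = p := orderOf_eq_prime hYp hY1
  have hi' : f Y ^ (i % p) = (f X)⁻¹ := by rw [← hi, ← pow_mod_orderOf (f Y) i, hoY]
  refine ⟨i % p, Nat.mod_lt _ hp.pos, Nat.pos_of_ne_zero fun h0 => hX1 (by
    rw [h0, pow_zero] at hi'; exact inv_eq_one.1 hi'.symm), fun k hk _ => ?_⟩
  have hcoe : ((X * Y ^ k : H) : G) = x * y ^ k := by simp [X, Y]
  have hone : f (X * Y ^ k) = 1 ↔ k = i % p := by
    have e : f (X * Y ^ k) = 1 ↔ f Y ^ k = f Y ^ (i % p) := by
      rw [map_mul, map_pow, hi', mul_eq_one_iff_inv_eq]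
      exact eq_comm
    rw [e]
    exact ⟨fun h => pow_injOn_Iio_orderOf (by rw [Set.mem_Iio, hoY]; exact hk)
      (by rw [Set.mem_Iio, hoY]; exact Nat.mod_lt _ hp.pos) h, fun h => by rw [h]⟩
  have hpk : f (X * Y ^ k) ^ p = 1 := by
    obtain ⟨z, hz⟩ := Subgroup.mem_zpowers_iff.1 hXY
    have hYz : ∀ z : ℤ, (f Y ^ z) ^ p = 1 := fun z => by
      rw [← zpow_natCast, ← zpow_mul, mul_comm, zpow_mul, zpow_natCast, hYp, one_zpow]
    rw [map_mul, map_pow, ← hz, ← zpow_natCast (f Y) k, ← zpow_add]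
    exact hYz _
  have hdiv : orderOf (X * Y ^ k) ∣ p * Nat.card K := by
    have hpow : (X * Y ^ k) ^ p ∈ K := (QuotientGroup.eq_one_iff _).1 (by
      rw [← QuotientGroup.mk'_apply, map_pow]; exact hpk)
    refine orderOf_dvd_of_pow_eq_one ?_
    rw [pow_mul]
    exact orderOf_dvd_iff_pow_eq_one.1 (Subgroup.orderOf_dvd_natCard K hpow)
  refine ⟨⟨fun hr => hone.1 ?_, fun he hd => ?_⟩, fun hne => ?_⟩
  · rw [← hcoe, Subgroup.orderOf_coe] at hr
    have h1 : orderOf (f (X * Y ^ k)) ∣ orderOf (X * Y ^ k) := orderOf_map_dvd _ _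
    rcases (Nat.dvd_prime hp).1 (orderOf_dvd_of_pow_eq_one hpk) with h | h
    · exact orderOf_eq_one_iff.1 h
    · exact absurd (h ▸ h1) hr
  · rw [← hcoe, Subgroup.orderOf_coe] at hd
    exact hKp (hd.trans (Subgroup.orderOf_dvd_natCard K ((QuotientGroup.eq_one_iff _).1 (hone.2 he))))
  · obtain ⟨e, he⟩ := exists_orderOf_pPt (p := p) (x * y ^ k)
    have hd : orderOf (pPt p (x * y ^ k)) ∣ p := by
      have h1 : orderOf (pPt p (x * y ^ k)) ∣ orderOf (x * y ^ k) :=
        orderOf_dvd_of_mem_zpowers (pPt_mem_zpowers _)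
      rw [he] at h1
      have h0 : orderOf (X * Y ^ k) = orderOf (x * y ^ k) := by rw [← hcoe, Subgroup.orderOf_coe]
      rw [← h0] at h1
      have h2 := h1.trans hdiv
      rw [he]
      exact ((hp.coprime_iff_not_dvd.2 hKp).pow_left e).dvd_of_dvd_mul_right h2
    rcases (Nat.dvd_prime hp).1 hd with h | h
    · refine absurd (hone.1 ?_) hne
      rw [orderOf_eq_one_iff, pPt_eq_one_iff, ← hcoe, Subgroup.orderOf_coe] at h
      have h1 : orderOf (f (X * Y ^ k)) ∣ orderOf (X * Y ^ k) := orderOf_map_dvd _ _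
      rcases (Nat.dvd_prime hp).1 (orderOf_dvd_of_pow_eq_one hpk) with h' | h'
      · exact orderOf_eq_one_iff.1 h'
      · exact absurd (h' ▸ h1) h
    · exact h

end Cfsg.Lib.Block.CyclicPairs
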