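import Cfsg.Agent.Lib.Block.CyclicPairs.Columns
import Cfsg.Agent.Lib.Block.PrincipalFreeShape

/-!
# Bounds on the mean values of the principal characters on the elements of order `p`

A nontrivial character has at least as many nontrivial eigenvalues on `⟨x⟩` as `x` has conjugates
there, and for a Sylow subgroup of order at least `p ^ 2` the values are bounded by that number.
-/

set_option autoImplicit false
set_option linter.unusedSectionVars false
set_option maxHeartbeats 800000

namespace Cfsg.Lib.Block.CyclicPairs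

open Cfsg
open scoped ComplexConjugate Classical

universe u

variable {p : ℕ} [Fact p.Prime] {G : Type u} [Group G] [Fintype G]
  {P : Sylow p G} [IsMulCommutative (P : Subgroup G)] (hc : IsCyclic (P : Subgroup G)) {x : G}
  (hxP : x ∈ (P : Subgroup G)) (hx : orderOf x = p) {M : Ideal AlgInt} (hM : IsPModular p M)

include hc hxP hx in
theorem meanVal_mul (χ : IrrCharacter G) :
    ((p : ℝ) - 1) * meanVal p χ = ∑ k ∈ (Finset.range p).erase 0, ((χ : G → ℂ) (x ^ k)).re := by
  have h := sum_conj_pow P hc hxP hx (R := ℝ) (f := fun g => ((χ : G → ℂ) g).re)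
    (fun g k => by simp only [χ.2.isClassFunction g k])
  have hd : ((ordSet p G).card : ℝ) *
      (Nat.card (Subgroup.normalizer ((Subgroup.zpowers x : Subgroup G) : Set G)) : ℝ) =
        (Nat.card G : ℝ) * ((p : ℝ) - 1) := by
    rw [← Nat.cast_mul, card_ordSet P hc hxP hx, Nat.cast_mul,
      Nat.cast_sub (Fact.out (p := p.Prime)).one_lt.le, Nat.cast_one]
  have hG : (Nat.card G : ℝ) ≠ 0 := by exact_mod_cast Nat.card_pos.ne'
  have hb : ∑ u ∈ ordSet p G, ((χ : G → ℂ) u).re = ((ordSet p G).card : ℝ) * meanVal p χ := by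
    rw [meanVal, mul_div_cancel₀]; exact (ordSet_pos hxP hx).ne'
  rw [hb] at h
  refine mul_left_cancel₀ hG ?_
  linear_combination h - meanVal p χ * hd

include hc hxP hx in
theorem colNorm_mul :
    colNorm P x * ((p : ℝ) - 1) = (Nat.card (P : Subgroup G) : ℝ) * (autIdx x : ℝ) := by
  set N := Nat.card (Subgroup.normalizer ((Subgroup.zpowers x : Subgroup G) : Set G)) with hN
  set C := Nat.card (Subgroup.centralizer ({x} : Set G)) with hC
  have h1 : ((ordSet p G).card : ℝ) * (N : ℝ) = (Nat.card G : ℝ) * ((p : ℝ) - 1) := by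
    rw [← Nat.cast_mul, card_ordSet P hc hxP hx, Nat.cast_mul,
      Nat.cast_sub (Fact.out (p := p.Prime)).one_lt.le, Nat.cast_one]
  have h2 : (C : ℝ) * (autIdx x : ℝ) = (N : ℝ) := by exact_mod_cast mul_autIdx x
  have h3 : ((Char.classFinset x).card : ℝ) * (C : ℝ) = (Nat.card G : ℝ) := by
    rw [Char.card_classFinset, ← Nat.cast_mul, Subgroup.index_mul_card]
  have hD := ordSet_pos (G := G) hxP hx
  have hC0 : (C : ℝ) ≠ 0 := by exact_mod_cast Nat.card_pos.ne'
  rw [colNorm, div_mul_eq_mul_div, div_eq_iff hD.ne']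
  refine mul_left_cancel₀ hC0 ?_
  linear_combination (Nat.card (P : Subgroup G) : ℝ) *
    (((p : ℝ) - 1) * h3 - h1 - ((ordSet p G).card : ℝ) * h2)

include hc hxP hx in
/-- The gap between the degree and the mean value. -/
theorem degree_gap (χ : IrrCharacter G) (hne : (χ : G → ℂ) x ≠ (χ : G → ℂ) 1) :
    (p : ℝ) * (autIdx x : ℝ) ≤
      ((p : ℝ) - 1) * ((charDegree (χ : G → ℂ) : ℝ) - meanVal p χ) := by
  have hp := Fact.out (p := p.Prime)
  set X := Subgroup.zpowers x with hX
  letI : Fintype X := Fintype.ofFinite _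
  have hcX : ∀ a b : X, a * b = b * a := fun a b => Std.Commutative.comm a b
  have hres : IsCharacter X (fun v : X => (χ : G → ℂ) (X.subtype v)) := χ.2.isCharacter.comp _
  choose a ha using fun φ : IrrCharacter X => hres.exists_nat_classInner φ.2.isCharacter
  let gen : X := ⟨x, Subgroup.mem_zpowers x⟩
  have hgen : orderOf gen = p := by rw [← Subgroup.orderOf_coe]; exact hx
  have hcardX : Nat.card X = p := by rw [hX, Nat.card_zpowers, hx]
  have hexp : (fun v : X => (χ : G → ℂ) (X.subtype v)) =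
      ∑ φ : IrrCharacter X, (a φ : ℂ) • (φ : X → ℂ) := by
    conv_lhs => rw [Char.eq_sum_classInner hres.isClassFunction]
    simp only [ha]
  have h1 : ∀ v : X, (χ : G → ℂ) (v : G) = ∑ φ : IrrCharacter X, (a φ : ℂ) * (φ : X → ℂ) v :=
    fun v => by
      have := congrFun hexp v
      simpa [Finset.sum_apply] using this
  have hdeg : (charDegree (χ : G → ℂ) : ℂ) = ((∑ φ : IrrCharacter X, a φ : ℕ) : ℂ) := by
    rw [← apply_one_eq_charDegree, ← OneMemClass.coe_one X, h1 1, Nat.cast_sum]
    exact Finset.sum_congr rfl fun φ _ => by rw [Char.degree_eq_one_of_comm hcX φ.2, mul_one]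
  have hdeg' : charDegree (χ : G → ℂ) = ∑ φ : IrrCharacter X, a φ := by exact_mod_cast hdeg
  have hsumX : ∀ f : G → ℂ, ∑ v : X, f (v : G) =
      f 1 + ∑ k ∈ (Finset.range p).erase 0, f (x ^ k) := by
    intro f
    have himg : (Finset.range p).image (fun k => gen ^ k) = Finset.univ := by
      refine Finset.eq_univ_of_card _ ?_
      rw [Finset.card_image_of_injOn (fun i hi j hj h => pow_injOn_Iio_orderOf (x := gen)
        (by rw [Set.mem_Iio, hgen]; exact Finset.mem_range.1 hi)
        (by rw [Set.mem_Iio, hgen]; exact Finset.mem_range.1 hj) h), Finset.card_range,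
        ← Nat.card_eq_fintype_card, hcardX]
    rw [← himg, Finset.sum_image (fun i hi j hj h => pow_injOn_Iio_orderOf (x := gen)
        (by rw [Set.mem_Iio, hgen]; exact Finset.mem_range.1 hi)
        (by rw [Set.mem_Iio, hgen]; exact Finset.mem_range.1 hj) h),
      ← Finset.add_sum_erase _ _ (Finset.mem_range.2 hp.pos)]
    simp [gen]
  -- the trivial multiplicity
  have hβ : ((p : ℝ) - 1) * meanVal p χ + (charDegree (χ : G → ℂ) : ℝ) =
      (p : ℝ) * (a (trivChar X) : ℝ) := by
    have h := ha (trivChar X)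
    simp only [classInner, trivChar_coe, map_one, mul_one, Subgroup.coe_subtype] at h
    rw [inv_mul_eq_iff_eq_mul₀ (Char.card_cast_ne_zero (G := X)), hcardX, hsumX] at h
    have h' := congrArg Complex.re h
    rw [Complex.add_re, Complex.re_sum, apply_one_eq_charDegree, Complex.natCast_re,
      ← meanVal_mul hc hxP hx, ← Nat.cast_mul, Complex.natCast_re, Nat.cast_mul] at h'
    linarith
  -- the nontrivial multiplicities
  obtain ⟨φ₀, hφ0, hφa⟩ : ∃ φ : IrrCharacter X, φ ≠ trivChar X ∧ 0 < a φ := by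
    by_contra hno
    push Not at hno
    refine hne ?_
    have e1 : ∀ v : X, (χ : G → ℂ) (v : G) = (a (trivChar X) : ℂ) := fun v => by
      rw [h1 v, Finset.sum_eq_single (trivChar X)]
      · rw [trivChar_coe, mul_one]
      · intro φ _ hφ; rw [Nat.le_zero.1 (hno φ hφ), Nat.cast_zero, zero_mul]
      · intro h; exact absurd (Finset.mem_univ _) h
    exact (e1 gen).trans (e1 1).symm
  obtain ⟨ψ, hψ⟩ : ∃ ψ : X →* ℂˣ, (φ₀ : X → ℂ) = fun v => (ψ v : ℂ) := by
    obtain ⟨ψ, hψ⟩ := Char.linearCharEquiv.surjective ⟨φ₀, Char.degree_eq_one_of_comm hcX φ₀.2⟩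
    exact ⟨ψ, (congrArg (fun z : {χ : IrrCharacter X // (χ : X → ℂ) 1 = 1} => (z.1 : X → ℂ)) hψ).symm⟩
  have hψx : orderOf (ψ gen) = p := by
    refine orderOf_eq_prime ?_ fun h => hφ0 (Subtype.ext ?_)
    · rw [← map_pow, orderOf_dvd_iff_pow_eq_one.1 hgen.dvd, map_one]
    · funext v
      have hv : v ∈ Subgroup.zpowers gen := by
        obtain ⟨i, hi⟩ := Subgroup.mem_zpowers_iff.1 v.2
        exact ⟨i, Subtype.ext (by simpa [gen] using hi)⟩
      obtain ⟨i, rfl⟩ := Subgroup.mem_zpowers_iff.1 hv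
      simp only [hψ, trivChar_coe, map_zpow, h, one_zpow, Units.val_one]
  have hgap : autIdx x ≤ ∑ φ ∈ Finset.univ.erase (trivChar X), a φ := by
    rw [← card_autOrbit]
    choose! kw hkp hk0 hkw hkc using fun w (hw : w ∈ autOrbit x) => exists_pow_of_mem_autOrbit hx hw
    let F : ∀ k : ℕ, k.Coprime (Nat.card X) → IrrCharacter X := fun k hk =>
      ⟨_, Char.isIrrCharacter_comp_pow hk φ₀.2⟩
    have hcop : ∀ w ∈ autOrbit x, (kw w).Coprime (Nat.card X) := fun w hw => by
      rw [hcardX]
      exact (Nat.coprime_of_lt_prime (hk0 w hw).ne' (hkp w hw) hp).symm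
    let g : {w // w ∈ autOrbit x} → IrrCharacter X := fun w => F (kw w.1) (hcop w.1 w.2)
    have hval : ∀ w, (g w : X → ℂ) = fun v => (φ₀ : X → ℂ) (v ^ kw w.1) := fun w => rfl
    have hinj : Function.Injective g := by
      intro w w' h
      have h2 := congrArg (fun φ : IrrCharacter X => (φ : X → ℂ) gen) h
      simp only [hval, hψ, map_pow] at h2
      have h3 : ψ gen ^ kw w.1 = ψ gen ^ kw w'.1 := Units.ext h2
      have := pow_injOn_Iio_orderOf (x := ψ gen) (by rw [Set.mem_Iio, hψx]; exact hkp _ w.2)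
        (by rw [Set.mem_Iio, hψx]; exact hkp _ w'.2) h3
      exact Subtype.ext (by rw [← hkw _ w.2, ← hkw _ w'.2, this])
    have hsame : ∀ w, a (g w) = a φ₀ := by
      intro w
      have e : ((a (g w) : ℕ) : ℂ) = (a φ₀ : ℂ) := by
        rw [← ha, ← ha]
        simp only [classInner, hval]
        congr 1
        refine Fintype.sum_bijective (fun v : X => v ^ kw w.1)
          (Char.powBij_of_coprime (hcop w.1 w.2)) _ _ fun v => ?_
        congr 1
        obtain ⟨n, hn⟩ := isConj_iff.1 (hkc w.1 w.2)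
        obtain ⟨i, hi⟩ := Subgroup.mem_zpowers_iff.1 v.2
        show (χ : G → ℂ) (v : G) = (χ : G → ℂ) (((v ^ kw w.1 : X)) : G)
        rw [SubgroupClass.coe_pow, ← hi, ← zpow_natCast (x ^ i), ← zpow_mul, mul_comm, zpow_mul,
          zpow_natCast, hkw w.1 w.2, ← hn, conj_zpow, χ.2.isClassFunction]
      exact_mod_cast e
    have hsub : Finset.univ.image g ⊆ Finset.univ.erase (trivChar X) := by
      intro φ hφ
      obtain ⟨w, -, rfl⟩ := Finset.mem_image.1 hφ
      refine Finset.mem_erase.2 ⟨fun h => ?_, Finset.mem_univ _⟩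
      have h2 := congrArg (fun φ : IrrCharacter X => (φ : X → ℂ) gen) h
      simp only [hval, hψ, map_pow, trivChar_coe] at h2
      have h3 : ψ gen ^ kw w.1 = 1 := Units.ext h2
      have h4 := orderOf_dvd_of_pow_eq_one h3
      rw [hψx] at h4
      exact absurd (Nat.le_of_dvd (hk0 _ w.2) h4) (by have := hkp _ w.2; omega)
    refine le_trans ?_ (Finset.sum_le_sum_of_subset hsub)
    rw [Finset.sum_image fun a _ b _ h => hinj h, Finset.sum_congr rfl fun w _ => hsame w,
      Finset.sum_const, smul_eq_mul, Finset.card_univ, Fintype.card_coe]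
    exact Nat.le_mul_of_pos_right _ hφa
  have htot : (charDegree (χ : G → ℂ) : ℝ) = (a (trivChar X) : ℝ) +
      ((∑ φ ∈ Finset.univ.erase (trivChar X), a φ : ℕ) : ℝ) := by
    rw [hdeg', ← Finset.add_sum_erase _ _ (Finset.mem_univ (trivChar X)), Nat.cast_add]
  have hgap' : (autIdx x : ℝ) ≤ ((∑ φ ∈ Finset.univ.erase (trivChar X), a φ : ℕ) : ℝ) := by
    exact_mod_cast hgap
  have hp0 : (0 : ℝ) ≤ p := Nat.cast_nonneg p
  calc (p : ℝ) * (autIdx x : ℝ)
      ≤ (p : ℝ) * ((∑ φ ∈ Finset.univ.erase (trivChar X), a φ : ℕ) : ℝ) :=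
        mul_le_mul_of_nonneg_left hgap' hp0
    _ = ((p : ℝ) - 1) * ((charDegree (χ : G → ℂ) : ℝ) - meanVal p χ) := by
        linear_combination hβ - (p : ℝ) * htot

include hxP hx hc in
theorem relIndex_le_autIdx :
    (Subgroup.centralizer ((P : Subgroup G) : Set G)).relIndex
      (Subgroup.normalizer ((P : Subgroup G) : Set G)) ≤ autIdx x := by
  set NP := Subgroup.normalizer ((P : Subgroup G) : Set G)
  set NX := Subgroup.normalizer ((Subgroup.zpowers x : Subgroup G) : Set G)
  have hx1 : x ≠ 1 := fun h => (Fact.out (p := p.Prime)).one_lt.ne (by rw [← hx, h, orderOf_one])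
  have hle : NP ≤ NX := by
    intro n hn
    have hm := (Subgroup.mem_normalizer_iff.1 hn x).1 hxP
    have ho : orderOf (n * x * n⁻¹) = p := by rw [← MulAut.conj_apply, MulEquiv.orderOf_eq, hx]
    haveI := hc
    let b : (P : Subgroup G) := ⟨n * x * n⁻¹, hm⟩
    let a : (P : Subgroup G) := ⟨x, hxP⟩
    have hp := Fact.out (p := p.Prime)
    have ha : orderOf a = p := by rw [← Subgroup.orderOf_coe]; exact hx
    have hap : ∀ i : ℕ, (a ^ i) ^ p = 1 := fun i => by
      rw [← pow_mul, mul_comm, pow_mul, orderOf_dvd_iff_pow_eq_one.1 ha.dvd, one_pow]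
    have hinjOn : Set.InjOn (fun i : ℕ => a ^ i) (Finset.range p) := fun i hi j hj h =>
      pow_injOn_Iio_orderOf (x := a) (by rw [Set.mem_Iio, ha]; exact Finset.mem_range.1 hi)
        (by rw [Set.mem_Iio, ha]; exact Finset.mem_range.1 hj) h
    have himg : (Finset.range p).image (fun i : ℕ => a ^ i) =
        Finset.univ.filter fun c : (P : Subgroup G) => c ^ p = 1 := by
      refine Finset.eq_of_subset_of_card_le (fun c hc => ?_) ?_
      · obtain ⟨i, -, rfl⟩ := Finset.mem_image.1 hc
        exact Finset.mem_filter.2 ⟨Finset.mem_univ _, hap i⟩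
      · rw [Finset.card_image_of_injOn hinjOn, Finset.card_range]
        exact IsCyclic.card_pow_eq_one_le hp.pos
    have hb : b ^ p = 1 := Subtype.ext (by
      simp only [SubgroupClass.coe_pow, OneMemClass.coe_one, b]
      exact orderOf_dvd_iff_pow_eq_one.1 ho.dvd)
    obtain ⟨i, -, hi⟩ := Finset.mem_image.1
      (himg.symm ▸ Finset.mem_filter.2 ⟨Finset.mem_univ b, hb⟩)
    have hi' : x ^ i = n * x * n⁻¹ := by simpa [a, b] using congrArg Subtype.val hi
    have hz : Subgroup.zpowers (n * x * n⁻¹) = Subgroup.zpowers x :=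
      Subgroup.eq_of_le_of_card_ge
        (Subgroup.zpowers_le.2 (hi' ▸ pow_mem (Subgroup.mem_zpowers x) i))
        (by rw [Nat.card_zpowers, Nat.card_zpowers, ho, hx])
    rw [Subgroup.mem_normalizer_iff_map_conj_eq, MonoidHom.map_zpowers]
    exact hz
  rw [← freeAction_of_cyclic P hc x hxP hx1, Subgroup.inf_relIndex_right]
  exact Subgroup.relIndex_le_of_le_right hle
    (fun h => (Nat.card_pos (α := NX)).ne (by
      rw [← mul_autIdx x, show autIdx x = 0 from h, mul_zero]))

include hM hc hxP hx in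
/-- For a Sylow subgroup of order at least `p ^ 2` the principal values are small. -/
theorem norm_value_le (hsq : p ^ 2 ≤ Nat.card (P : Subgroup G)) {χ : IrrCharacter G}
    (hχ : χ ∈ principalBlock M G) (hne : χ ≠ trivChar G) {k : ℕ} (hk : k < p) (hk0 : 0 < k) :
    ‖(χ : G → ℂ) (x ^ k)‖ ≤ (autIdx x : ℝ) := by
  have hp := Fact.out (p := p.Prime)
  set m := (Subgroup.centralizer ((P : Subgroup G) : Set G)).relIndex
    (Subgroup.normalizer ((P : Subgroup G) : Set G)) with hm
  set q := Nat.card (P : Subgroup G) with hq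
  have hfree := freeAction_of_cyclic P hc
  have hme : m ≤ autIdx x := relIndex_le_autIdx hc hxP hx
  have hmp : m ≤ p - 1 := hme.trans (autIdx_le hx)
  have ht := card_homOrb (P := P) hfree hm.symm
  rw [← hq, Nat.card_eq_fintype_card] at ht
  set t := Fintype.card (HomOrb P) with htdef
  have hq1 : p * p ≤ q := by rwa [← pow_two]
  have h2p := hp.two_le
  have ht2 : m + 2 ≤ t := by
    by_contra hlt
    have h3 : t * m ≤ p * (p - 1) := by
      refine (Nat.mul_le_mul_right m (show t ≤ m + 1 by omega)).trans ?_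
      exact Nat.mul_le_mul (by omega) hmp
    rw [Nat.mul_sub, mul_one] at h3
    have : p ≤ p * p := Nat.le_mul_self p
    omega
  have hP1 : q ≠ 1 := by have := Nat.le_mul_self p; omega
  obtain ⟨y, n, δ, w, S⟩ := exists_freeShape hM hfree hm.symm hP1 (by omega)
  have hnorm := S.norm_eq hM hfree hm.symm (by omega)
  have hxk : x ^ k ∈ (P : Subgroup G) := pow_mem hxP k
  have hxk1 : x ^ k ≠ 1 := fun h => hp.one_lt.ne (by rw [← orderOf_pow_lt hx hk hk0, h, orderOf_one])
  set X := (principalBlock M G \ Set.range y).toFinset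
  have htriv : trivChar G ∈ X := Set.mem_toFinset.2
    ⟨trivChar_mem_principal hM, S.triv_not_range hM (by omega)⟩
  have hn1 := S.n_triv hM (by omega)
  have hsplit := Finset.add_sum_erase X (fun χ => (-n χ) ^ 2) htriv
  simp only [hn1] at hsplit
  rw [show ((-(-1 : ℤ)) ^ 2) = 1 by norm_num] at hsplit
  rw [← htdef] at hnorm
  have hrest : 0 ≤ ∑ χ ∈ X.erase (trivChar G), (-n χ) ^ 2 :=
    Finset.sum_nonneg fun _ _ => sq_nonneg _
  have hw : w = 0 := by
    by_contra hw
    have h1 : 1 ≤ (-w) ^ 2 := by nlinarith [Int.one_le_abs hw, sq_abs w]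
    have h2 : ((t : ℤ) - 1) * 1 ≤ ((t : ℤ) - 1) * (-w) ^ 2 :=
      mul_le_mul_of_nonneg_left h1 (by omega)
    have := sq_nonneg (-w - δ)
    omega
  by_cases hr : χ ∈ Set.range y
  · obtain ⟨j, rfl⟩ := hr
    induction j using Quotient.inductionOn with
    | h ψ =>
      have hz : IsPPart p (x ^ k) ((⟨x ^ k, hxk⟩ : (P : Subgroup G)) : G) :=
        ⟨1, mul_one _, Commute.one_right _, ⟨1, by rw [orderOf_pow_lt hx hk hk0, pow_one]⟩,
          by rw [orderOf_one, Nat.dvd_one]; exact hp.ne_one⟩
      rw [S.value_Y hM hfree ψ hz hxk1, hw, neg_zero, Int.cast_zero, zero_add, norm_mul,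
        finsum_mem_eq_toFinset_sum]
      have hδ : ‖(δ : ℂ)‖ = 1 := by rcases S.sign with h | h <;> simp [h]
      rw [hδ, one_mul]
      refine (norm_sum_le _ _).trans ?_
      have hone : ∀ φ : (P : Subgroup G) →* ℂˣ,
          ‖((φ ⟨x ^ k, hxk⟩ : ℂˣ) : ℂ)‖ = 1 := fun φ => by
        refine Complex.norm_eq_one_of_pow_eq_one (n := p) ?_ hp.ne_zero
        rw [← Units.val_pow_eq_pow_val, ← map_pow, show (⟨x ^ k, hxk⟩ : (P : Subgroup G)) ^ p = 1
          from Subtype.ext (by simp only [SubgroupClass.coe_pow, OneMemClass.coe_one]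
                               rw [← pow_mul, mul_comm, pow_mul,
                                 orderOf_dvd_iff_pow_eq_one.1 hx.dvd, one_pow]),
          map_one, Units.val_one]
      rw [Finset.sum_congr rfl fun φ _ => hone φ, Finset.sum_const, nsmul_eq_mul, mul_one]
      refine Nat.cast_le.2 (le_trans ?_ hme)
      set O := Finset.univ.filter fun φ : (P : Subgroup G) →* ℂˣ => ConjHom P ψ.1 φ
      set NP := Subgroup.normalizer ((P : Subgroup G) : Set G)
      have hcnt : ∀ φ ∈ O, (Finset.univ.filter fun g : NP => ψ.1.comp (conjSyl P g) = φ).card =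
          Nat.card (Subgroup.centralizer ((P : Subgroup G) : Set G)) := fun φ hφ => by
        have hC : ConjHom P ψ.1 φ := (Finset.mem_filter.1 hφ).2
        have h0 := card_conj_filter hfree (φ := ψ.1) (hC.ne_one ψ.2)
        rw [if_pos hC.symm] at h0
        rw [← h0]
        convert rfl
      have hle : O.card * Nat.card (Subgroup.centralizer ((P : Subgroup G) : Set G)) ≤
          Nat.card NP := by
        rw [← smul_eq_mul, ← Finset.sum_const, ← Finset.sum_congr rfl hcnt,
          ← Finset.card_biUnion, Nat.card_eq_fintype_card, ← Finset.card_univ]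
        · exact Finset.card_le_card (Finset.subset_univ _)
        · intro a _ b _ hab
          rw [Function.onFun, Finset.disjoint_left]
          intro g h1 h2
          exact hab ((Finset.mem_filter.1 h1).2.symm.trans (Finset.mem_filter.1 h2).2)
      rw [card_normalizer_eq hm.symm] at hle
      refine le_trans (le_of_eq (congrArg Finset.card ?_)) (Nat.le_of_mul_le_mul_right hle Nat.card_pos)
      ext φ
      simp only [Set.mem_toFinset, Set.mem_ofPred_eq, O, Finset.mem_filter, Finset.mem_univ, true_and]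
  · have hz : IsPPart p (x ^ k) (x ^ k) :=
      ⟨1, mul_one _, Commute.one_right _, ⟨1, by rw [orderOf_pow_lt hx hk hk0, pow_one]⟩,
        by rw [orderOf_one, Nat.dvd_one]; exact hp.ne_one⟩
    rw [S.value_X hM hfree hχ hr hz hxk hxk1, Complex.norm_intCast]
    have hmem : χ ∈ X.erase (trivChar G) :=
      Finset.mem_erase.2 ⟨hne, Set.mem_toFinset.2 ⟨hχ, hr⟩⟩
    have h1 := Finset.single_le_sum (f := fun χ => (-n χ) ^ 2) (fun _ _ => sq_nonneg _) hmem
    have h0 : 0 ≤ ((t : ℤ) - 1) * (-w) ^ 2 := mul_nonneg (by omega) (sq_nonneg _)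
    have := sq_nonneg (-w - δ)
    have h2 : (-n χ) ^ 2 ≤ (m : ℤ) := by
      have h1' : (-n χ) ^ 2 ≤ ∑ χ ∈ X.erase (trivChar G), (-n χ) ^ 2 := h1
      omega
    have h3 : |(-n χ)| ≤ (m : ℤ) := le_trans (Int.le_self_sq _) (by rwa [sq_abs])
    calc |((-n χ : ℤ) : ℝ)| = ((|(-n χ)| : ℤ) : ℝ) := by push_cast; rfl
      _ ≤ ((m : ℤ) : ℝ) := by exact_mod_cast h3
      _ ≤ (autIdx x : ℝ) := by exact_mod_cast hme

end Cfsg.Lib.Block.CyclicPairs
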