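import Cfsg.Agent.Lib.Block.CyclicPairs.Counts
import Cfsg.Agent.Lib.Block.PrincipalFree
import Cfsg.Agent.Lib.Char.InvolutionSetSum

/-!
# The principal column of the elements of order `p`

For a cyclic Sylow subgroup the indicator of the sections of the elements of order `p` is a
combination of the characters of the principal block, with coefficients their mean values on the
elements of order `p`.
-/

set_option autoImplicit false
set_option linter.unusedSectionVars false
set_option maxHeartbeats 800000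

namespace Cfsg.Lib.Block.CyclicPairs

open Cfsg
open scoped ComplexConjugate Classical

universe u

variable {p : ℕ} [Fact p.Prime] {G : Type u} [Group G] [Fintype G]

/-- The mean of the real parts of a character on the elements of order `p`. -/
noncomputable def meanVal (p : ℕ) (χ : IrrCharacter G) : ℝ :=
  (∑ u ∈ ordSet p G, ((χ : G → ℂ) u).re) / ((ordSet p G).card : ℝ)

/-- The norm of the column of mean values. -/
noncomputable def colNorm (P : Sylow p G) (x : G) : ℝ :=
  (Nat.card (P : Subgroup G) : ℝ) * ((Char.classFinset x).card : ℝ) / ((ordSet p G).card : ℝ)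

variable (P : Sylow p G) [IsMulCommutative (P : Subgroup G)]

theorem freeAction_of_cyclic (hc : IsCyclic (P : Subgroup G)) : FreeAction P := by
  intro y hy hy1
  refine le_antisymm ?_ (le_inf ?_ (Subgroup.centralizer_le_normalizer _))
  · intro n hn
    obtain ⟨h1, h2⟩ := Subgroup.mem_inf.1 hn
    exact fixes P hc h2 hy hy1 (Subgroup.mem_centralizer_singleton_iff.1 h1)
  · intro n hn
    exact Subgroup.mem_centralizer_singleton_iff.2 (Subgroup.mem_centralizer_iff.1 hn y hy).symm

variable {P} (hc : IsCyclic (P : Subgroup G)) {x : G} (hxP : x ∈ (P : Subgroup G))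
  (hx : orderOf x = p) {M : Ideal AlgInt} (hM : IsPModular p M)

include hxP hx in
theorem ordSet_pos : 0 < ((ordSet p G).card : ℝ) := by
  exact_mod_cast Finset.card_pos.2 ⟨x, mem_ordSet.2 hx⟩

theorem ordSet_conjClosed : Char.ConjClosed (ordSet p G) := fun k g hg => by
  rw [mem_ordSet] at hg ⊢
  rw [← MulAut.conj_apply, MulEquiv.orderOf_eq, hg]

include hxP hx in
theorem cast_meanVal (χ : IrrCharacter G) :
    ∑ u ∈ ordSet p G, (χ : G → ℂ) u = ((ordSet p G).card : ℂ) * (meanVal p χ : ℂ) := by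
  set S := ∑ u ∈ ordSet p G, (χ : G → ℂ) u with hS
  have hconj : conj S = S := by
    rw [hS, map_sum]
    refine Finset.sum_nbij' (fun u => u⁻¹) (fun u => u⁻¹)
      (fun u hu => by simpa [mem_ordSet] using hu) (fun u hu => by simpa [mem_ordSet] using hu)
      (fun u _ => inv_inv u) (fun u _ => inv_inv u) fun u _ => ?_
    rw [χ.2.isCharacter.apply_inv]
  have hre : (S.re : ℂ) = S := Complex.conj_eq_iff_re.1 hconj
  rw [← hre, hS, Complex.re_sum, meanVal, Complex.ofReal_div, Complex.ofReal_natCast,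
    mul_div_cancel₀]
  exact_mod_cast (ordSet_pos hxP hx).ne'

include hxP hx in
theorem meanVal_triv : meanVal p (trivChar G) = 1 := by
  rw [meanVal, trivChar_coe]
  simp only [Complex.one_re, Finset.sum_const, nsmul_eq_mul, mul_one]
  exact div_self (ordSet_pos hxP hx).ne'

include hM hc hxP hx in
theorem principal_value_ordSet {χ : IrrCharacter G} (hχ : χ ∈ principalBlock M G) {g : G}
    (hg : orderOf (pPt p g) = p) : (χ : G → ℂ) g = (χ : G → ℂ) (pPt p g) := by
  obtain ⟨c, k, hk, hk0, he⟩ := exists_conj_pow P hc hxP hx hg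
  have hz : IsPPart p (c⁻¹ * g * c) (x ^ k) := by
    refine ⟨c⁻¹ * pReg p g * c, ?_, ?_, ⟨1, by rw [orderOf_pow_lt hx hk hk0, pow_one]⟩, ?_⟩
    · conv_rhs => rw [← pPt_mul_pReg (p := p) g, he]
      group
    · have h := congrArg (fun w => c⁻¹ * w * c) (pPt_commute_pReg (p := p) g).eq
      simp only [he] at h
      show x ^ k * _ = _ * x ^ k
      simpa [mul_assoc] using h
    · rw [show c⁻¹ * pReg p g * c = MulAut.conj c⁻¹ (pReg p g) by simp, MulEquiv.orderOf_eq]
      exact not_dvd_orderOf_pReg g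
  have h := principal_value_pPart hM (freeAction_of_cyclic P hc) hχ hz (pow_mem hxP k)
    (fun h1 => (Fact.out (p := p.Prime)).one_lt.ne (by
      rw [← orderOf_pow_lt hx hk hk0, h1, orderOf_one]))
  have e1 : (χ : G → ℂ) g = (χ : G → ℂ) (c⁻¹ * g * c) := by
    conv_lhs => rw [show g = c * (c⁻¹ * g * c) * c⁻¹ by group]
    rw [χ.2.isClassFunction]
  rw [e1, h, he, χ.2.isClassFunction]

include hM hc hxP hx in
theorem column (g : G) :
    ∑ χ ∈ (principalBlock M G).toFinset, (meanVal p χ : ℂ) * (χ : G → ℂ) g =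
      if orderOf (pPt p g) = p then (colNorm P x : ℂ) else 0 := by
  classical
  have hp := Fact.out (p := p.Prime)
  have hD : ((ordSet p G).card : ℂ) ≠ 0 := by exact_mod_cast (ordSet_pos hxP hx).ne'
  refine mul_left_cancel₀ hD ?_
  rw [Finset.mul_sum]
  have e : ∀ χ : IrrCharacter G, ((ordSet p G).card : ℂ) * ((meanVal p χ : ℂ) * (χ : G → ℂ) g) =
      ∑ u ∈ ordSet p G, (χ : G → ℂ) g * conj ((χ : G → ℂ) u) := fun χ => by
    rw [← mul_assoc, ← cast_meanVal hxP hx χ, ← Finset.mul_sum, ← map_sum,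
      cast_meanVal hxP hx χ]
    simp only [map_mul, Complex.conj_ofReal, Complex.conj_natCast]
    ring
  rw [Finset.sum_congr rfl fun χ _ => e χ, Finset.sum_comm]
  have hpp : ∀ u ∈ ordSet p G, pPt p u = u := fun u hu =>
    (eq_pPt (mul_one u) (Commute.one_right u) (k := 1) (by rw [mem_ordSet.1 hu, pow_one])
      (by rw [orderOf_one, Nat.dvd_one]; exact hp.ne_one)).symm
  split_ifs with hg
  · obtain ⟨c, k, hk, hk0, he⟩ := exists_conj_pow P hc hxP hx hg
    have hk1 : x ^ k ≠ 1 := fun h1 => hp.one_lt.ne (by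
      rw [← orderOf_pow_lt hx hk hk0, h1, orderOf_one])
    have hterm : ∀ u ∈ ordSet p G,
        ∑ χ ∈ (principalBlock M G).toFinset, (χ : G → ℂ) g * conj ((χ : G → ℂ) u) =
          if IsConj (x ^ k) u then (Nat.card (P : Subgroup G) : ℂ) else 0 := by
      intro u hu
      rw [Finset.sum_congr rfl (g := fun χ : IrrCharacter G =>
        (χ : G → ℂ) (x ^ k) * conj ((χ : G → ℂ) u)) fun χ hχ => by
        rw [principal_value_ordSet hc hxP hx hM (Set.mem_toFinset.1 hχ) hg, he,
          χ.2.isClassFunction], ← finsum_mem_eq_toFinset_sum,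
        principal_column hM ⟨1, by rw [orderOf_pow_lt hx hk hk0, pow_one]⟩
          ⟨1, by rw [mem_ordSet.1 hu, pow_one]⟩]
      exact if_congr Iff.rfl
        (principalDegSq_free hM (freeAction_of_cyclic P hc) (pow_mem hxP k) hk1) rfl
    have hset : (ordSet p G).filter (fun u => IsConj (x ^ k) u) = Char.classFinset (x ^ k) := by
      ext u
      rw [Finset.mem_filter, Char.mem_classFinset, mem_ordSet]
      refine ⟨And.right, fun h => ⟨?_, h⟩⟩
      obtain ⟨d, rfl⟩ := isConj_iff.1 h
      rw [← MulAut.conj_apply, MulEquiv.orderOf_eq, orderOf_pow_lt hx hk hk0]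
    rw [Finset.sum_congr rfl hterm, ← Finset.sum_filter, Finset.sum_const, nsmul_eq_mul, hset,
      Char.card_classFinset, centralizer_pow hx hk hk0, ← Char.card_classFinset, colNorm]
    push_cast
    field_simp
  · rw [mul_zero]
    refine Finset.sum_eq_zero fun u hu => ?_
    rw [← finsum_mem_eq_toFinset_sum]
    refine sum_block_mul_conj_eq_zero hM (vInt_indVec hM isPBlock_principal) fun h => hg ?_
    rw [hpp u hu] at h
    obtain ⟨d, hd⟩ := isConj_iff.1 h
    have := mem_ordSet.1 hu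
    rw [← hd, ← MulAut.conj_apply, MulEquiv.orderOf_eq] at this
    exact this

include hM hc hxP hx in
theorem sum_sq_meanVal :
    ∑ χ ∈ (principalBlock M G).toFinset, meanVal p χ ^ 2 = colNorm P x := by
  have h : ∑ g ∈ ordSet p G, ∑ χ ∈ (principalBlock M G).toFinset,
      (meanVal p χ : ℂ) * (χ : G → ℂ) g = ((ordSet p G).card : ℂ) * (colNorm P x : ℂ) := by
    rw [Finset.sum_congr rfl (g := fun _ => (colNorm P x : ℂ)) fun g hg => ?_, Finset.sum_const,
      nsmul_eq_mul]
    rw [column hc hxP hx hM, if_pos]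
    rw [← (eq_pPt (mul_one g) (Commute.one_right g) (k := 1) (by rw [mem_ordSet.1 hg, pow_one])
      (by rw [orderOf_one, Nat.dvd_one]; exact (Fact.out (p := p.Prime)).ne_one))]
    exact mem_ordSet.1 hg
  rw [Finset.sum_comm, Finset.sum_congr rfl fun χ _ => by
    rw [← Finset.mul_sum, cast_meanVal hxP hx χ, mul_left_comm], ← Finset.mul_sum] at h
  have h2 := mul_left_cancel₀
    (show ((ordSet p G).card : ℂ) ≠ 0 by exact_mod_cast (ordSet_pos hxP hx).ne') h
  have h3 : ((∑ χ ∈ (principalBlock M G).toFinset, meanVal p χ ^ 2 : ℝ) : ℂ) =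
      (colNorm P x : ℂ) := by
    rw [← h2]; push_cast; exact Finset.sum_congr rfl fun χ _ => by ring
  exact_mod_cast h3

include hM hc hxP hx in
theorem sum_meanVal_degree :
    ∑ χ ∈ (principalBlock M G).toFinset, meanVal p χ * (charDegree (χ : G → ℂ) : ℝ) = 0 := by
  have h := column hc hxP hx hM (1 : G)
  rw [if_neg (by
    rw [(pPt_eq_one_iff (1 : G)).2 (by
      rw [orderOf_one, Nat.dvd_one]; exact (Fact.out (p := p.Prime)).ne_one), orderOf_one]
    exact (Fact.out (p := p.Prime)).ne_one.symm)] at h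
  have h3 : ((∑ χ ∈ (principalBlock M G).toFinset,
      meanVal p χ * (charDegree (χ : G → ℂ) : ℝ) : ℝ) : ℂ) = 0 := by
    rw [← h]; push_cast
    exact Finset.sum_congr rfl fun χ _ => by rw [apply_one_eq_charDegree]
  exact_mod_cast h3

include hM hc hxP hx in
/-- The pairs of elements of order `p` whose product has `p`-part of order `p`. -/
theorem sum_cube_meanVal (hcyc : ∀ S : Subgroup G, IsPGroup p S → IsCyclic S)
    (hpair : ∀ y z : G, orderOf y = p → orderOf z = p →
      IsPSolvable p (Subgroup.closure ({y, z} : Set G))) :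
    ((p : ℝ) - 1) * ∑ χ ∈ (principalBlock M G).toFinset,
        meanVal p χ ^ 3 / (charDegree (χ : G → ℂ) : ℝ) = colNorm P x * ((p : ℝ) - 2) := by
  classical
  have hp := Fact.out (p := p.Prime)
  set D := ordSet p G with hDdef
  set B := (principalBlock M G).toFinset
  set E := colNorm P x
  let ind : G → ℕ := fun g => if orderOf (pPt p g) = p then 1 else 0
  set S := (Finset.range p).erase 0 with hSdef
  have hS : S.card = p - 1 := by
    rw [hSdef, Finset.card_erase_of_mem (Finset.mem_range.2 hp.pos), Finset.card_range]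
  -- exactly `p - 2` exponents
  have hrow : ∀ a ∈ D, ∀ b ∈ D, ∑ k ∈ S, ind (a * b ^ k) = p - 2 := by
    intro a ha b hb
    obtain ⟨k₀, hk₀, hk₀0, hall⟩ :=
      pair_products hcyc (mem_ordSet.1 ha) (mem_ordSet.1 hb) (hpair a b (mem_ordSet.1 ha) (mem_ordSet.1 hb))
    have hmem : k₀ ∈ S := Finset.mem_erase.2 ⟨hk₀0.ne', Finset.mem_range.2 hk₀⟩
    rw [← Finset.add_sum_erase S _ hmem, Finset.sum_congr rfl (g := fun _ => 1) fun k hk => ?_,
      Finset.sum_const, Finset.card_erase_of_mem hmem, hS, smul_eq_mul, mul_one]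
    · have h0 : ind (a * b ^ k₀) = 0 := by
        rw [show ind (a * b ^ k₀) = if orderOf (pPt p (a * b ^ k₀)) = p then 1 else 0 from rfl,
          (pPt_eq_one_iff _).2 ((hall k₀ hk₀ hk₀0).1.2 rfl), orderOf_one, if_neg hp.ne_one.symm]
      rw [h0]; omega
    · obtain ⟨hne, hkS⟩ := Finset.mem_erase.1 hk
      obtain ⟨hk0, hkp⟩ := Finset.mem_erase.1 hkS
      exact if_pos ((hall k (Finset.mem_range.1 hkp) (Nat.pos_of_ne_zero hk0)).2 hne)
  have hperm : ∀ a : G, ∀ k ∈ S, ∑ b ∈ D, ind (a * b ^ k) = ∑ b ∈ D, ind (a * b) := by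
    intro a k hk
    obtain ⟨hk0, hkp⟩ := Finset.mem_erase.1 hk
    have hlt := Finset.mem_range.1 hkp
    obtain ⟨m, -, hm⟩ := Nat.exists_mul_mod_eq_one_of_coprime
      (Nat.coprime_of_lt_prime hk0 hlt hp).symm hp.one_lt
    have hf : ∀ c ∈ D, (c ^ k) ^ m = c := fun c hc => by
      rw [← pow_mul, ← pow_mod_orderOf, mem_ordSet.1 hc, hm, pow_one]
    have hmem : ∀ c ∈ D, c ^ k ∈ D := fun c hc => mem_ordSet.2
      (orderOf_pow_lt (mem_ordSet.1 hc) hlt (Nat.pos_of_ne_zero hk0))
    have hinj : Set.InjOn (fun c : G => c ^ k) D := fun a ha b hb hab =>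
      (hf a ha).symm.trans ((congrArg (· ^ m) hab).trans (hf b hb))
    have himg : D.image (fun c => c ^ k) = D := Finset.eq_of_subset_of_card_le
      (Finset.image_subset_iff.2 hmem) (by rw [Finset.card_image_of_injOn hinj])
    conv_rhs => rw [← himg, Finset.sum_image hinj]
  have hnat : (p - 1) * ∑ a ∈ D, ∑ b ∈ D, ind (a * b) = D.card * (D.card * (p - 2)) := by
    rw [Finset.mul_sum, Finset.sum_congr rfl (g := fun _ => D.card * (p - 2)) fun a ha => ?_,
      Finset.sum_const, smul_eq_mul]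
    rw [← hS, ← smul_eq_mul, ← Finset.sum_const, Finset.sum_congr rfl fun k hk => (hperm a k hk).symm,
      Finset.sum_comm, Finset.sum_congr rfl (g := fun _ => p - 2) fun b hb => hrow a ha b hb,
      Finset.sum_const, smul_eq_mul]
  have hexp : (E : ℂ) * ((∑ a ∈ D, ∑ b ∈ D, ind (a * b) : ℕ) : ℂ) = (D.card : ℂ) * (D.card : ℂ) *
      ((∑ χ ∈ B, meanVal p χ ^ 3 / (charDegree (χ : G → ℂ) : ℝ) : ℝ) : ℂ) := by
    push_cast
    rw [Finset.mul_sum, Finset.sum_congr rfl fun a _ => Finset.mul_sum D _ _,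
      Finset.sum_congr rfl fun a _ => Finset.sum_congr rfl
        (g := fun b => ∑ χ ∈ B, (meanVal p χ : ℂ) * (χ : G → ℂ) (a * b)) fun b _ => ?_,
      Finset.sum_comm_cycle, Finset.mul_sum]
    · refine Finset.sum_congr rfl fun χ _ => ?_
      simp_rw [← Finset.mul_sum]
      rw [Char.sum_conjClosed_pair ordSet_conjClosed χ.2, cast_meanVal hxP hx χ,
        apply_one_eq_charDegree]
      push_cast
      ring
    · rw [column hc hxP hx hM]
      by_cases h : orderOf (pPt p (a * b)) = p <;> simp [ind, h, E]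
  have hD0 : (D.card : ℝ) ≠ 0 := (ordSet_pos hxP hx).ne'
  have hexp' : E * ((∑ a ∈ D, ∑ b ∈ D, ind (a * b) : ℕ) : ℝ) = (D.card : ℝ) * (D.card : ℝ) *
      ∑ χ ∈ B, meanVal p χ ^ 3 / (charDegree (χ : G → ℂ) : ℝ) := by exact_mod_cast hexp
  have hnat' : ((p : ℝ) - 1) * ((∑ a ∈ D, ∑ b ∈ D, ind (a * b) : ℕ) : ℝ) =
      (D.card : ℝ) * ((D.card : ℝ) * ((p : ℝ) - 2)) := by
    have h := congrArg (fun n : ℕ => (n : ℝ)) hnat
    simp only [Nat.cast_mul] at h
    rwa [Nat.cast_sub hp.one_lt.le, Nat.cast_sub hp.two_le, Nat.cast_one, Nat.cast_ofNat] at h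
  refine mul_left_cancel₀ (mul_ne_zero hD0 hD0) ?_
  linear_combination E * hnat' - ((p : ℝ) - 1) * hexp'

end Cfsg.Lib.Block.CyclicPairs
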