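import Cfsg.Agent.Lib.Block.CyclicPairs.Basic

/-!
# The elements of order `p` for a cyclic Sylow subgroup
-/

set_option autoImplicit false
set_option linter.unusedSectionVars false
set_option maxHeartbeats 400000

namespace Cfsg.Lib.Block.CyclicPairs

open Cfsg

universe u

variable {p : ℕ} [Fact p.Prime] {G : Type u} [Group G] [Fintype G]

/-- The elements of order `p`. -/
noncomputable def ordSet (p : ℕ) (G : Type u) [Group G] [Fintype G] : Finset G :=
  Finset.univ.filter fun g : G => orderOf g = p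

theorem mem_ordSet {g : G} : g ∈ ordSet p G ↔ orderOf g = p := by simp [ordSet]

/-- The index of the centralizer of `x` in the normalizer of the group it generates. -/
noncomputable def autIdx (x : G) : ℕ :=
  (Subgroup.centralizer ({x} : Set G)).relIndex
    (Subgroup.normalizer ((Subgroup.zpowers x : Subgroup G) : Set G))

/-- The conjugates of `x` inside the group it generates. -/
noncomputable def autOrbit (x : G) : Finset G := by
  classical exact (Finset.univ.filter fun n : G =>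
    n ∈ Subgroup.normalizer ((Subgroup.zpowers x : Subgroup G) : Set G)).image fun n => n * x * n⁻¹

theorem centralizer_le_normalizer_zpowers (x : G) :
    Subgroup.centralizer ({x} : Set G) ≤
      Subgroup.normalizer ((Subgroup.zpowers x : Subgroup G) : Set G) := by
  rw [Subgroup.zpowers_eq_closure]
  refine le_trans (Subgroup.centralizer_closure _).ge (Subgroup.centralizer_le_normalizer _)

theorem mul_autIdx (x : G) :
    Nat.card (Subgroup.centralizer ({x} : Set G)) * autIdx x =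
      Nat.card (Subgroup.normalizer ((Subgroup.zpowers x : Subgroup G) : Set G)) := by
  rw [autIdx, ← Subgroup.relIndex_bot_left, ← Subgroup.relIndex_bot_left,
    Subgroup.relIndex_mul_relIndex _ _ _ bot_le (centralizer_le_normalizer_zpowers x)]

theorem card_autOrbit (x : G) : (autOrbit x).card = autIdx x := by
  classical
  set N := Subgroup.normalizer ((Subgroup.zpowers x : Subgroup G) : Set G)
  set C := Subgroup.centralizer ({x} : Set G)
  set s := Finset.univ.filter fun n : G => n ∈ N with hs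
  have hfib : ∀ w ∈ autOrbit x, (s.filter fun n => n * x * n⁻¹ = w).card = Nat.card C := by
    intro w hw
    obtain ⟨n₀, hn₀, rfl⟩ := Finset.mem_image.1 hw
    rw [← Nat.card_eq_finsetCard]
    have hn₀' : n₀ ∈ N := (Finset.mem_filter.1 hn₀).2
    refine Nat.card_congr
      ⟨fun n => ⟨n₀⁻¹ * n.1, ?_⟩, fun c => ⟨n₀ * c.1, ?_⟩, fun n => Subtype.ext (by simp),
        fun c => Subtype.ext (by simp)⟩
    · have h := (Finset.mem_filter.1 n.2).2
      refine Subgroup.mem_centralizer_singleton_iff.2 ?_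
      calc n₀⁻¹ * n.1 * x = n₀⁻¹ * (n.1 * x * n.1⁻¹) * n.1 := by group
        _ = n₀⁻¹ * (n₀ * x * n₀⁻¹) * n.1 := by rw [h]
        _ = x * (n₀⁻¹ * n.1) := by group
    · have hc := Subgroup.mem_centralizer_singleton_iff.1 c.2
      refine Finset.mem_filter.2 ⟨Finset.mem_filter.2 ⟨Finset.mem_univ _,
        mul_mem hn₀' (centralizer_le_normalizer_zpowers x c.2)⟩, ?_⟩
      calc n₀ * c.1 * x * (n₀ * c.1)⁻¹ = n₀ * (c.1 * x) * c.1⁻¹ * n₀⁻¹ := by group
        _ = n₀ * x * n₀⁻¹ := by rw [hc]; group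
  have h1 : s.card = (autOrbit x).card * Nat.card C := by
    rw [Finset.card_eq_sum_card_fiberwise (f := fun n => n * x * n⁻¹) (t := autOrbit x)
      (fun n hn => Finset.mem_image.2 ⟨n, hn, rfl⟩), Finset.sum_congr rfl hfib, Finset.sum_const,
      smul_eq_mul]
  have h2 : s.card = Nat.card N := by
    rw [← Fintype.card_subtype, ← Nat.card_eq_fintype_card]
  rw [h2, ← mul_autIdx, mul_comm] at h1
  exact (Nat.eq_of_mul_eq_mul_right Nat.card_pos h1).symm

theorem exists_pow_of_mem_autOrbit {x : G} (hx : orderOf x = p) {w : G} (hw : w ∈ autOrbit x) :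
    ∃ k < p, 0 < k ∧ x ^ k = w ∧ IsConj x w := by
  classical
  have hp := Fact.out (p := p.Prime)
  obtain ⟨n, hn, rfl⟩ := Finset.mem_image.1 hw
  have hm := (Subgroup.mem_normalizer_iff.1 (Finset.mem_filter.1 hn).2 x).1
    (Subgroup.mem_zpowers x)
  rw [← mem_powers_iff_mem_zpowers, Submonoid.mem_powers_iff] at hm
  obtain ⟨k, hk⟩ := hm
  have hk' : x ^ (k % p) = n * x * n⁻¹ := by rw [← hk, ← hx, pow_mod_orderOf]
  refine ⟨k % p, Nat.mod_lt _ hp.pos, Nat.pos_of_ne_zero fun h0 => ?_, hk', isConj_iff.2 ⟨n, rfl⟩⟩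
  rw [h0, pow_zero] at hk'
  have : x = 1 := by
    rw [show x = n⁻¹ * (n * x * n⁻¹) * n by group, ← hk']; group
  rw [this, orderOf_one] at hx
  exact hp.one_lt.ne hx

theorem autIdx_le {x : G} (hx : orderOf x = p) : autIdx x ≤ p - 1 := by
  classical
  rw [← card_autOrbit]
  have hsub : autOrbit x ⊆ ((Finset.range p).erase 0).image fun k => x ^ k := by
    intro w hw
    obtain ⟨k, hk, hk0, he, -⟩ := exists_pow_of_mem_autOrbit hx hw
    exact Finset.mem_image.2 ⟨k, Finset.mem_erase.2 ⟨hk0.ne', Finset.mem_range.2 hk⟩, he⟩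
  refine (Finset.card_le_card hsub).trans (Finset.card_image_le.trans ?_)
  rw [Finset.card_erase_of_mem (Finset.mem_range.2 (Fact.out (p := p.Prime)).pos), Finset.card_range]

/-- In the presence of a cyclic Sylow subgroup every element of order `p` is conjugate to a
power of a given one. -/
theorem exists_conj_pow (P : Sylow p G) (hc : IsCyclic (P : Subgroup G)) {x y : G}
    (hxP : x ∈ (P : Subgroup G)) (hx : orderOf x = p) (hy : orderOf y = p) :
    ∃ (c : G) (k : ℕ), k < p ∧ 0 < k ∧ y = c * x ^ k * c⁻¹ := by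
  classical
  have hp := Fact.out (p := p.Prime)
  obtain ⟨S, hS⟩ := (IsPGroup.of_card (p := p) (G := Subgroup.zpowers y) (n := 1)
    (by rw [Nat.card_zpowers, hy, pow_one])).exists_le_sylow
  obtain ⟨c, hc'⟩ := MulAction.exists_smul_eq G P S
  have hm := hS (Subgroup.mem_zpowers y)
  rw [← hc', Sylow.coe_subgroup_smul] at hm
  obtain ⟨w, hw, hwe⟩ := hm
  have hwe' : c * w * c⁻¹ = y := hwe
  have how : orderOf w = p := by
    rw [← hy, ← hwe', ← MulAut.conj_apply, MulEquiv.orderOf_eq]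
  haveI := hc
  let a : (P : Subgroup G) := ⟨x, hxP⟩
  let b : (P : Subgroup G) := ⟨w, hw⟩
  have ha : orderOf a = p := by rw [← Subgroup.orderOf_coe]; exact hx
  have hap : ∀ i : ℕ, (a ^ i) ^ p = 1 := fun i => by
    rw [← pow_mul, mul_comm, pow_mul]
    exact (congrArg (· ^ i) (orderOf_dvd_iff_pow_eq_one.1 ha.dvd)).trans (one_pow i)
  have himg : (Finset.range p).image (fun i : ℕ => a ^ i) =
      Finset.univ.filter fun c : (P : Subgroup G) => c ^ p = 1 := by
    refine Finset.eq_of_subset_of_card_le ?_ ?_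
    · intro c hc
      obtain ⟨i, -, rfl⟩ := Finset.mem_image.1 hc
      exact Finset.mem_filter.2 ⟨Finset.mem_univ _, hap i⟩
    · rw [Finset.card_image_of_injOn (fun i hi j hj h => pow_injOn_Iio_orderOf (x := a)
        (by rw [Set.mem_Iio, ha]; exact Finset.mem_range.1 hi)
        (by rw [Set.mem_Iio, ha]; exact Finset.mem_range.1 hj) h), Finset.card_range]
      exact IsCyclic.card_pow_eq_one_le hp.pos
  have hb : b ^ p = 1 := by
    apply Subtype.ext; simp [b, ← how, pow_orderOf_eq_one]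
  obtain ⟨k, hk, hkb⟩ := Finset.mem_image.1 (himg.symm ▸ Finset.mem_filter.2 ⟨Finset.mem_univ b, hb⟩)
  have hkw : x ^ k = w := by simpa [a, b] using congrArg Subtype.val hkb
  refine ⟨c, k, Finset.mem_range.1 hk, Nat.pos_of_ne_zero fun h0 => ?_, by rw [hkw, hwe']⟩
  rw [h0, pow_zero] at hkw
  rw [← hkw, orderOf_one] at how
  exact hp.one_lt.ne how

theorem centralizer_pow {x : G} (hx : orderOf x = p) {k : ℕ} (hk : k < p) (hk0 : 0 < k) :
    Subgroup.centralizer ({x ^ k} : Set G) = Subgroup.centralizer ({x} : Set G) := by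
  have hp := Fact.out (p := p.Prime)
  obtain ⟨m, hm⟩ := exists_pow_eq_self_of_coprime (x := x) (n := k)
    (hx.symm ▸ (Nat.coprime_of_lt_prime hk0.ne' hk hp).symm)
  ext c
  rw [Subgroup.mem_centralizer_singleton_iff, Subgroup.mem_centralizer_singleton_iff]
  exact ⟨fun h => hm ▸ ((show Commute c (x ^ k) from h).pow_right m).eq,
    fun h => ((show Commute c x from h).pow_right k).eq⟩

theorem orderOf_pow_lt {x : G} (hx : orderOf x = p) {k : ℕ} (hk : k < p) (hk0 : 0 < k) :
    orderOf (x ^ k) = p := by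
  rw [orderOf_pow' _ hk0.ne', hx,
    (Nat.coprime_of_lt_prime hk0.ne' hk (Fact.out (p := p.Prime))).gcd_eq_one, Nat.div_one]

theorem fiber_card (P : Sylow p G) (hc : IsCyclic (P : Subgroup G)) {x : G}
    (hxP : x ∈ (P : Subgroup G)) (hx : orderOf x = p) {y : G} (hy : y ∈ ordSet p G)
    [DecidableEq G] :
    (((Finset.univ : Finset G) ×ˢ (Finset.range p).erase 0).filter
      fun a => a.1 * x ^ a.2 * a.1⁻¹ = y).card =
        Nat.card (Subgroup.normalizer ((Subgroup.zpowers x : Subgroup G) : Set G)) := by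
  classical
  have hp := Fact.out (p := p.Prime)
  set N := Subgroup.normalizer ((Subgroup.zpowers x : Subgroup G) : Set G)
  obtain ⟨c, j, hj, hj0, rfl⟩ := exists_conj_pow P hc hxP hx (mem_ordSet.1 hy)
  rw [← Nat.card_eq_finsetCard]
  refine Nat.card_congr (Equiv.ofBijective (fun a => ⟨c⁻¹ * a.1.1, ?_⟩) ⟨?_, ?_⟩)
  · obtain ⟨ha1, ha2⟩ := Finset.mem_filter.1 a.2
    obtain ⟨h0, hlt⟩ := Finset.mem_erase.1 (Finset.mem_product.1 ha1).2
    have hc' : (c⁻¹ * a.1.1) * x ^ a.1.2 * (c⁻¹ * a.1.1)⁻¹ = x ^ j := by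
      rw [show (c⁻¹ * a.1.1) * x ^ a.1.2 * (c⁻¹ * a.1.1)⁻¹ =
        c⁻¹ * (a.1.1 * x ^ a.1.2 * a.1.1⁻¹) * c by group, ha2]
      group
    have hgen : ∀ i : ℕ, i < p → 0 < i → Subgroup.zpowers (x ^ i) = Subgroup.zpowers x :=
      fun i hi hi0 => Subgroup.eq_of_le_of_card_ge
        (Subgroup.zpowers_le.2 (pow_mem (Subgroup.mem_zpowers x) i))
        (by rw [Nat.card_zpowers, Nat.card_zpowers, orderOf_pow_lt hx hi hi0, hx])
    rw [Subgroup.mem_normalizer_iff_map_conj_eq, ← hgen _ (Finset.mem_range.1 hlt)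
      (Nat.pos_of_ne_zero h0), MonoidHom.map_zpowers, hgen _ (Finset.mem_range.1 hlt)
      (Nat.pos_of_ne_zero h0)]
    exact (congrArg Subgroup.zpowers hc').trans (hgen _ hj hj0)
  · rintro ⟨⟨a, i⟩, ha⟩ ⟨⟨b, l⟩, hb⟩ h
    have hab : a = b := by simpa using h
    subst hab
    obtain ⟨ha1, ha2⟩ := Finset.mem_filter.1 ha
    obtain ⟨hb1, hb2⟩ := Finset.mem_filter.1 hb
    have hpw : x ^ i = x ^ l := mul_left_cancel (mul_right_cancel (ha2.trans hb2.symm))
    have := pow_injOn_Iio_orderOf (x := x)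
      (by rw [Set.mem_Iio, hx]; exact Finset.mem_range.1 (Finset.mem_erase.1 (Finset.mem_product.1 ha1).2).2)
      (by rw [Set.mem_Iio, hx]; exact Finset.mem_range.1 (Finset.mem_erase.1 (Finset.mem_product.1 hb1).2).2)
      hpw
    subst this
    rfl
  · rintro ⟨n, hn⟩
    have hninv : n⁻¹ * x ^ j * n ∈ Subgroup.zpowers x := by
      have h := (Subgroup.mem_normalizer_iff.1 (inv_mem hn) (x ^ j)).1
        (pow_mem (Subgroup.mem_zpowers x) j)
      simpa using h
    rw [← mem_powers_iff_mem_zpowers, Submonoid.mem_powers_iff] at hninv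
    obtain ⟨i, hi⟩ := hninv
    have hi' : x ^ (i % p) = n⁻¹ * x ^ j * n := by rw [← hi, ← hx, pow_mod_orderOf]
    have hi0 : i % p ≠ 0 := fun h0 => by
      rw [h0, pow_zero] at hi'
      have h1 : x ^ j = 1 := by
        rw [show x ^ j = n * (n⁻¹ * x ^ j * n) * n⁻¹ by group, ← hi']; group
      have := orderOf_pow_lt hx hj hj0
      rw [h1, orderOf_one] at this
      exact hp.one_lt.ne this
    refine ⟨⟨(c * n, i % p), Finset.mem_filter.2 ⟨Finset.mem_product.2 ⟨Finset.mem_univ _,
      Finset.mem_erase.2 ⟨hi0, Finset.mem_range.2 (Nat.mod_lt _ hp.pos)⟩⟩, ?_⟩⟩, ?_⟩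
    · show c * n * x ^ (i % p) * (c * n)⁻¹ = _
      rw [hi']; group
    · exact Subtype.ext (by simp)

theorem sum_conj_pow (P : Sylow p G) (hc : IsCyclic (P : Subgroup G)) {x : G}
    (hxP : x ∈ (P : Subgroup G)) (hx : orderOf x = p) {R : Type*} [CommRing R] {f : G → R}
    (hf : ∀ g h : G, f (h * g * h⁻¹) = f g) :
    (Nat.card (Subgroup.normalizer ((Subgroup.zpowers x : Subgroup G) : Set G)) : R) *
        ∑ u ∈ ordSet p G, f u =
      (Nat.card G : R) * ∑ k ∈ (Finset.range p).erase 0, f (x ^ k) := by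
  classical
  set s := (Finset.univ : Finset G) ×ˢ (Finset.range p).erase 0
  have hmaps : ∀ a ∈ s, a.1 * x ^ a.2 * a.1⁻¹ ∈ ordSet p G := fun a ha => by
    obtain ⟨h0, hlt⟩ := Finset.mem_erase.1 (Finset.mem_product.1 ha).2
    rw [mem_ordSet, ← MulAut.conj_apply, MulEquiv.orderOf_eq,
      orderOf_pow_lt hx (Finset.mem_range.1 hlt) (Nat.pos_of_ne_zero h0)]
  have h1 : ∑ a ∈ s, f (a.1 * x ^ a.2 * a.1⁻¹) =
      (Nat.card G : R) * ∑ k ∈ (Finset.range p).erase 0, f (x ^ k) := by
    rw [Finset.sum_product]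
    simp only [hf, Finset.sum_const, nsmul_eq_mul, Finset.card_univ, Nat.card_eq_fintype_card]
  rw [← h1, ← Finset.sum_fiberwise_of_maps_to hmaps, Finset.mul_sum]
  refine Finset.sum_congr rfl fun y hy => ?_
  rw [Finset.sum_congr rfl (g := fun _ => f y) fun a ha => by rw [(Finset.mem_filter.1 ha).2],
    Finset.sum_const, nsmul_eq_mul, fiber_card P hc hxP hx hy]

theorem card_ordSet (P : Sylow p G) (hc : IsCyclic (P : Subgroup G)) {x : G}
    (hxP : x ∈ (P : Subgroup G)) (hx : orderOf x = p) :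
    (ordSet p G).card * Nat.card (Subgroup.normalizer ((Subgroup.zpowers x : Subgroup G) : Set G)) =
      Nat.card G * (p - 1) := by
  have h := sum_conj_pow P hc hxP hx (R := ℤ) (f := fun _ => 1) (fun _ _ => rfl)
  rw [Finset.sum_const, Finset.sum_const, nsmul_eq_mul, nsmul_eq_mul, mul_one, mul_one,
    Finset.card_erase_of_mem (Finset.mem_range.2 (Fact.out (p := p.Prime)).pos),
    Finset.card_range] at h
  rw [mul_comm]
  exact_mod_cast h

end Cfsg.Lib.Block.CyclicPairs
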