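import Cfsg.Agent.Lib.Block.CyclicPairs.Bounds
import Cfsg.Agent.Lib.Block.OneClassMain

/-!
# No simple group with cyclic Sylow subgroup has pairwise `p`-solvable generation

The cubic column relation of the mean values contradicts the bounds on their size.
-/

set_option autoImplicit false
set_option linter.unusedSectionVars false
set_option maxHeartbeats 800000

namespace Cfsg.Lib.Block.CyclicPairs

open Cfsg
open scoped ComplexConjugate Classical

universe u

variable {p : ℕ} [Fact p.Prime] {G : Type u} [Group G] [Fintype G]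

theorem isCyclic_of_isPGroup (P : Sylow p G) (hc : IsCyclic (P : Subgroup G)) {S : Subgroup G}
    (hS : IsPGroup p S) : IsCyclic S := by
  obtain ⟨T, hT⟩ := hS.exists_le_sylow
  obtain ⟨e⟩ := (⟨Sylow.equiv P T⟩ : Nonempty ((P : Subgroup G) ≃* (T : Subgroup G)))
  haveI := hc
  haveI : IsCyclic (T : Subgroup G) := isCyclic_of_surjective e.toMonoidHom e.surjective
  exact isCyclic_of_injective (Subgroup.inclusion hT) (Subgroup.inclusion_injective hT)

/-- A simple group whose elements of order `p` generate pairwise `p`-solvable subgroups has no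
cyclic Sylow `p`-subgroup. -/
theorem no_cyclic_pairs [IsSimpleGroup G] (hG : ¬ IsMulCommutative G) (hdvd : p ∣ Nat.card G)
    (P : Sylow p G) (hc : IsCyclic (P : Subgroup G)) (hp2 : p ≠ 2)
    (hpair : ∀ y z : G, orderOf y = p → orderOf z = p →
      IsPSolvable p (Subgroup.closure ({y, z} : Set G))) : False := by
  have hp := Fact.out (p := p.Prime)
  have hp3 : 3 ≤ p := by have := hp.two_le; omega
  haveI : IsMulCommutative (P : Subgroup G) := by
    haveI := hc
    exact ⟨⟨fun a b => Std.Commutative.comm a b⟩⟩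
  have hpP : p ∣ Nat.card (P : Subgroup G) := P.dvd_card_of_dvd_card hdvd
  obtain ⟨⟨x, hxP⟩, hx'⟩ := exists_prime_orderOf_dvd_card' p hpP
  have hx : orderOf x = p := by rw [← Subgroup.orderOf_coe] at hx'; exact hx'
  have hx1 : x ≠ 1 := fun h => hp.one_lt.ne (by rw [← hx, h, orderOf_one])
  have hfree := freeAction_of_cyclic P hc
  obtain ⟨M, hM⟩ := exists_isPModular (q := p) hp
  set q := Nat.card (P : Subgroup G) with hq
  set e := autIdx x with he
  have he1 : e ≤ p - 1 := autIdx_le hx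
  have he2 : 2 ≤ e := by
    by_contra hlt
    have he0 : e ≠ 0 := fun h0 => by
      have := mul_autIdx x
      rw [← he, h0, mul_zero] at this
      exact Nat.card_pos.ne this
    have hN : Subgroup.normalizer ((P : Subgroup G) : Set G) ≤
        Subgroup.centralizer ((P : Subgroup G) : Set G) := by
      have h := relIndex_le_autIdx hc hxP hx
      refine Subgroup.relIndex_eq_one.1 ?_
      have h0 : (Subgroup.centralizer ((P : Subgroup G) : Set G)).relIndex
          (Subgroup.normalizer ((P : Subgroup G) : Set G)) ≠ 0 := by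
        rw [Subgroup.relIndex]; exact Subgroup.index_ne_zero_of_finite
      omega
    obtain ⟨Q, K, hK, hKQ⟩ := Fusion.hasNormalPComplement_of_normalizer_le_centralizer P hN
    have hcm := hKQ.card_mul
    have hQP : Nat.card (Q : Subgroup G) = q := by rw [hq, Q.card_eq_multiplicity, P.card_eq_multiplicity]
    rcases Subgroup.Normal.eq_bot_or_eq_top hK with h | h
    · apply hG
      rw [h, Subgroup.card_bot, one_mul, hQP] at hcm
      have hP : (P : Subgroup G) = ⊤ := Subgroup.eq_top_of_card_eq _ hcm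
      refine ⟨⟨fun a b => ?_⟩⟩
      have := sylow_comm P ⟨a, hP ▸ Subgroup.mem_top a⟩ ⟨b, hP ▸ Subgroup.mem_top b⟩
      exact congrArg Subtype.val this
    · rw [h, Subgroup.card_top, hQP] at hcm
      have hq1 : q = 1 := Nat.eq_of_mul_eq_mul_left (Nat.card_pos (α := G)) (by rw [hcm, mul_one])
      rw [hq1, Nat.dvd_one] at hpP
      exact hp.ne_one hpP
  obtain ⟨a, ha⟩ := IsPGroup.iff_card.1 P.2
  have hqp : p ≤ q := Nat.le_of_dvd Nat.card_pos hpP
  by_cases hsmall : p = 3 ∧ q = 3
  · obtain ⟨h3, hq3⟩ := hsmall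
    refine OneClass.no_one_class hG hp2 P hxP hx (fun b hb hb1 => ?_) (fun y hy => ?_)
      (complement_centralizer_free hfree hxP hx1) hpair (fun S hS b hb c hc' => ?_)
    · refine orderOf_eq_prime (orderOf_dvd_iff_pow_eq_one.1 ?_) hb1
      have := Subgroup.orderOf_dvd_natCard _ hb
      rwa [← hq, hq3, ← h3] at this
    · obtain ⟨c, k, hk, hk0, rfl⟩ := exists_conj_pow P hc hxP hx hy
      have hk' : IsConj x (x ^ k) := by
        rcases (show k = 1 ∨ k = 2 by omega) with rfl | rfl
        · rw [pow_one]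
        · by_contra hne
          have hsub : autOrbit x ⊆ {x} := fun w hw => by
            obtain ⟨j, hj, hj0, rfl, hjc⟩ := exists_pow_of_mem_autOrbit hx hw
            rcases (show j = 1 ∨ j = 2 by omega) with rfl | rfl
            · exact Finset.mem_singleton.2 (pow_one x)
            · exact absurd hjc hne
          have := Finset.card_le_card hsub
          rw [card_autOrbit, Finset.card_singleton] at this
          omega
      exact hk'.trans (isConj_iff.2 ⟨c, rfl⟩)
    · haveI := isCyclic_of_isPGroup P hc hS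
      let _ : CommGroup S := IsCyclic.commGroup
      exact congrArg Subtype.val (mul_comm (⟨b, hb⟩ : S) ⟨c, hc'⟩)
  set B := (principalBlock M G).toFinset
  set E := colNorm P x
  have hsum2 : ∑ χ ∈ B, meanVal p χ ^ 2 = E := sum_sq_meanVal hc hxP hx hM
  have hcube : ((p : ℝ) - 1) * ∑ χ ∈ B, meanVal p χ ^ 3 / (charDegree (χ : G → ℂ) : ℝ) =
      E * ((p : ℝ) - 2) :=
    sum_cube_meanVal hc hxP hx hM (fun S hS => isCyclic_of_isPGroup P hc hS) hpair
  have hE : E * ((p : ℝ) - 1) = (q : ℝ) * (e : ℝ) := colNorm_mul hc hxP hx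
  have htB : trivChar G ∈ B := Set.mem_toFinset.2 (trivChar_mem_principal hM)
  have hb1 := meanVal_triv (p := p) (G := G) hxP hx
  have hd1 : charDegree ((trivChar G : IrrCharacter G) : G → ℂ) = 1 :=
    charDegree_eq_of_apply_one (by simp [trivChar_coe])
  have hp' : (3 : ℝ) ≤ p := by exact_mod_cast hp3
  have he' : (2 : ℝ) ≤ e := by exact_mod_cast he2
  have he1' : (e : ℝ) ≤ (p : ℝ) - 1 := by
    have h : ((e : ℕ) : ℝ) ≤ ((p - 1 : ℕ) : ℝ) := by exact_mod_cast he1
    rwa [Nat.cast_sub hp.one_lt.le, Nat.cast_one] at h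
  have hrest : ∑ χ ∈ B.erase (trivChar G), meanVal p χ ^ 2 = E - 1 := by
    have h := Finset.add_sum_erase B (fun χ => meanVal p χ ^ 2) htB
    simp only [hb1] at h
    linarith
  have hbound : ∀ χ ∈ B.erase (trivChar G), meanVal p χ ≤ (e : ℝ) := by
    intro χ hχ
    obtain ⟨hne, hχB⟩ := Finset.mem_erase.1 hχ
    by_cases hsq : p ^ 2 ≤ q
    · have hm := meanVal_mul hc hxP hx χ
      have hle : ∑ k ∈ (Finset.range p).erase 0, ((χ : G → ℂ) (x ^ k)).re ≤
          ∑ _k ∈ (Finset.range p).erase 0, (e : ℝ) := Finset.sum_le_sum fun k hk => by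
        obtain ⟨hk0, hkp⟩ := Finset.mem_erase.1 hk
        exact (Complex.re_le_norm _).trans (norm_value_le hc hxP hx hM hsq
          (Set.mem_toFinset.1 hχB) hne (Finset.mem_range.1 hkp) (Nat.pos_of_ne_zero hk0))
      rw [Finset.sum_const, Finset.card_erase_of_mem (Finset.mem_range.2 hp.pos), Finset.card_range,
        nsmul_eq_mul, Nat.cast_sub hp.one_lt.le, Nat.cast_one, ← hm] at hle
      exact le_of_mul_le_mul_left hle (by linarith)
    · have hqeq : q = p := by
        rw [← hq] at ha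
        rcases Nat.lt_or_ge a 2 with h | h
        · interval_cases a
          · rw [ha, pow_zero] at hqp; omega
          · rw [ha, pow_one]
        · exact absurd (ha ▸ Nat.pow_le_pow_right hp.pos h) hsq
      have hs : meanVal p χ ^ 2 ≤ E - 1 := hrest ▸ Finset.single_le_sum
        (f := fun χ => meanVal p χ ^ 2) (fun _ _ => sq_nonneg _) hχ
      rw [hqeq] at hE
      have hEe : E - 1 ≤ (e : ℝ) := by
        have : (E - 1) * ((p : ℝ) - 1) ≤ (e : ℝ) * ((p : ℝ) - 1) := by nlinarith
        exact le_of_mul_le_mul_right this (by linarith)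
      by_contra hlt
      nlinarith
  have hterm : ∀ χ ∈ B.erase (trivChar G),
      meanVal p χ ^ 3 / (charDegree (χ : G → ℂ) : ℝ) ≤
        ((p : ℝ) - 1) / (2 * (p : ℝ) - 1) * meanVal p χ ^ 2 := by
    intro χ hχ
    obtain ⟨hne, hχB⟩ := Finset.mem_erase.1 hχ
    have hker : (χ : G → ℂ) x ≠ (χ : G → ℂ) 1 := by
      intro h
      rcases Subgroup.Normal.eq_bot_or_eq_top (Char.charKer_normal χ.2.isCharacter) with hk | hk
      · exact hx1 (Subgroup.mem_bot.1 (hk ▸ (Char.mem_charKer χ.2.isCharacter).2 h))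
      · have hall : ∀ g, (χ : G → ℂ) g = (χ : G → ℂ) 1 := fun g =>
          (Char.mem_charKer χ.2.isCharacter).1 (hk ▸ Subgroup.mem_top g)
        have h0 := Char.classInner_irr χ.2 (trivChar G).2
        rw [if_neg (fun e => hne (Subtype.ext e))] at h0
        simp only [classInner, trivChar_coe, map_one, mul_one] at h0
        rw [Finset.sum_congr rfl fun g _ => hall g, Finset.sum_const, nsmul_eq_mul, ← mul_assoc,
          Finset.card_univ, ← Nat.card_eq_fintype_card,
          inv_mul_cancel₀ (Char.card_cast_ne_zero (G := G)), one_mul] at h0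
        exact χ.2.apply_one_ne_zero h0
    have hgap := degree_gap hc hxP hx χ hker
    have hb := hbound χ hχ
    set b := meanVal p χ
    set d : ℝ := (charDegree (χ : G → ℂ) : ℝ)
    have hd : 0 < d := by
      have h0 := χ.2.apply_one_ne_zero
      rw [apply_one_eq_charDegree, Nat.cast_ne_zero] at h0
      exact Nat.cast_pos.2 (Nat.pos_of_ne_zero h0)
    have hr : (0 : ℝ) ≤ ((p : ℝ) - 1) / (2 * (p : ℝ) - 1) := div_nonneg (by linarith) (by linarith)
    rcases le_or_gt b 0 with h0 | h0
    · have h3 : b ^ 3 ≤ 0 := by nlinarith [mul_nonpos_of_nonneg_of_nonpos (sq_nonneg b) h0]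
      exact (div_nonpos_of_nonpos_of_nonneg h3 hd.le).trans (mul_nonneg hr (sq_nonneg _))
    · have key : b * (2 * (p : ℝ) - 1) ≤ ((p : ℝ) - 1) * d := by
        nlinarith [mul_le_mul_of_nonneg_left hb (show (0 : ℝ) ≤ p by linarith)]
      rw [div_mul_eq_mul_div, div_le_div_iff₀ hd (by linarith)]
      calc b ^ 3 * (2 * (p : ℝ) - 1) = b ^ 2 * (b * (2 * (p : ℝ) - 1)) := by ring
        _ ≤ b ^ 2 * (((p : ℝ) - 1) * d) := mul_le_mul_of_nonneg_left key (sq_nonneg b)
        _ = ((p : ℝ) - 1) * b ^ 2 * d := by ring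
  have hT := Finset.sum_le_sum hterm
  rw [← Finset.mul_sum, hrest] at hT
  have hsplit := Finset.add_sum_erase B
    (fun χ => meanVal p χ ^ 3 / (charDegree (χ : G → ℂ) : ℝ)) htB
  simp only [hb1, hd1, Nat.cast_one, one_pow, div_one] at hsplit
  rw [← hsplit] at hcube
  have hpos : (0 : ℝ) < 2 * (p : ℝ) - 1 := by linarith
  have hfin : E * ((p : ℝ) ^ 2 - 3 * (p : ℝ) + 1) ≤ (p : ℝ) * ((p : ℝ) - 1) := by
    have h1 : E * ((p : ℝ) - 2) ≤
        ((p : ℝ) - 1) * (1 + ((p : ℝ) - 1) / (2 * (p : ℝ) - 1) * (E - 1)) := by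
      rw [← hcube]
      exact mul_le_mul_of_nonneg_left (by linarith) (by linarith)
    have h2 := mul_le_mul_of_nonneg_right h1 hpos.le
    have h3 : ((p : ℝ) - 1) / (2 * (p : ℝ) - 1) * (2 * (p : ℝ) - 1) = (p : ℝ) - 1 :=
      div_mul_cancel₀ _ hpos.ne'
    linear_combination h2 + ((p : ℝ) - 1) * (E - 1) * h3
  have hq0 : (p : ℝ) ≤ q := by exact_mod_cast hqp
  have hstep : 2 * (q : ℝ) * ((p : ℝ) ^ 2 - 3 * (p : ℝ) + 1) ≤ (p : ℝ) * ((p : ℝ) - 1) ^ 2 := by
    have hc0 : (0 : ℝ) ≤ (p : ℝ) ^ 2 - 3 * (p : ℝ) + 1 := by nlinarith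
    have h1 := mul_le_mul_of_nonneg_right hfin (show (0 : ℝ) ≤ (p : ℝ) - 1 by linarith)
    have h2 := mul_le_mul_of_nonneg_right
      (mul_le_mul_of_nonneg_left he' (show (0 : ℝ) ≤ q by linarith)) hc0
    nlinarith
  rcases (show p = 3 ∨ p = 4 ∨ 5 ≤ p by omega) with h | h | h
  · have hq9 : 9 ≤ q := by
      rw [← hq] at ha
      rcases Nat.lt_or_ge a 2 with h' | h'
      · interval_cases a
        · rw [ha, pow_zero] at hqp; omega
        · exact absurd ⟨h, by rw [ha, pow_one, h]⟩ hsmall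
      · rw [ha, h]; exact le_trans (by norm_num) (Nat.pow_le_pow_right (by norm_num) h')
    have hq9' : (9 : ℝ) ≤ q := by exact_mod_cast hq9
    have hp'' : (p : ℝ) = 3 := by exact_mod_cast h
    rw [hp''] at hstep
    linarith
  · rw [h] at hp
    exact absurd hp (by norm_num)
  · have hp5 : (5 : ℝ) ≤ p := by exact_mod_cast h
    have hc0 : (0 : ℝ) ≤ (p : ℝ) ^ 2 - 3 * (p : ℝ) + 1 := by nlinarith
    have h3 : 2 * (p : ℝ) * ((p : ℝ) ^ 2 - 3 * (p : ℝ) + 1) ≤ (p : ℝ) * ((p : ℝ) - 1) ^ 2 :=
      le_trans (mul_le_mul_of_nonneg_right (by linarith) hc0) hstep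
    nlinarith

end Cfsg.Lib.Block.CyclicPairs
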